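import Mathlib

/-!
# Groups with Klein four Sylow 2-subgroups: elementary local analysis (helper74)
-/

set_option autoImplicit false
set_option linter.style.haveILetI false
set_option linter.unusedSectionVars false

namespace Cfsg.Agent.Lib.Helper74

section general

variable {G : Type*} [Group G] [Finite G]

/-- An element normalizing a Sylow `2`-subgroup has an odd power inside it. -/
theorem exists_odd_pow_mem_sylow (P : Sylow 2 G) (g : G)
    (hg : g ∈ Subgroup.normalizer ((P : Subgroup G) : Set G)) :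
    ∃ t : ℕ, Odd t ∧ g ^ t ∈ (P : Subgroup G) := by
  obtain ⟨s, t, ht, hst⟩ := Nat.exists_eq_two_pow_mul_odd (orderOf_pos g).ne'
  refine ⟨t, ht, ?_⟩
  have ht0 : t ≠ 0 := by rintro rfl; simp at ht
  have ho : orderOf (g ^ t) = 2 ^ s := by
    rw [orderOf_pow_of_dvd ht0 (Dvd.intro_left _ hst.symm), hst]
    exact Nat.mul_div_cancel _ (Nat.pos_of_ne_zero ht0)
  have hp : IsPGroup 2 (Subgroup.zpowers (g ^ t)) := by
    haveI : Fact (Nat.Prime 2) := ⟨Nat.prime_two⟩
    rw [IsPGroup.iff_card]
    exact ⟨s, by rw [Nat.card_zpowers, ho]⟩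
  have h1 := hp.inf_normalizer_sylow P
  have h2 : g ^ t ∈ Subgroup.zpowers (g ^ t) ⊓ (P : Subgroup G) := by
    rw [← h1]
    exact ⟨Subgroup.mem_zpowers _, Subgroup.pow_mem _ hg t⟩
  exact h2.2

/-- every element of `2`-power order is conjugate into a given Sylow `2`-subgroup -/
theorem exists_conj_mem_sylow (P : Sylow 2 G) (x : G) (k : ℕ) (hx : orderOf x = 2 ^ k) :
    ∃ c : G, c * x * c⁻¹ ∈ (P : Subgroup G) := by
  haveI : Fact (Nat.Prime 2) := ⟨Nat.prime_two⟩
  have hp : IsPGroup 2 (Subgroup.zpowers x) := by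
    rw [IsPGroup.iff_card]
    exact ⟨k, by rw [Nat.card_zpowers, hx]⟩
  obtain ⟨Q, hQ⟩ := hp.exists_le_sylow
  obtain ⟨c, hc⟩ := MulAction.exists_smul_eq G Q P
  refine ⟨c, ?_⟩
  rw [← hc]
  have : x ∈ (Q : Subgroup G) := hQ (Subgroup.mem_zpowers x)
  rw [Sylow.coe_subgroup_smul, Subgroup.mem_pointwise_smul_iff_inv_smul_mem]
  simpa [MulAut.smul_def, mul_assoc] using this

end general

section klein

variable {G : Type*} [Group G] [Finite G] (P : Sylow 2 G) [hK : IsKleinFour (P : Subgroup G)]

include hK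

theorem klein_mul_self {a : G} (ha : a ∈ (P : Subgroup G)) : a * a = 1 := by
  have := IsKleinFour.mul_self (⟨a, ha⟩ : (P : Subgroup G))
  exact congrArg Subtype.val this

theorem klein_comm {a b : G} (ha : a ∈ (P : Subgroup G)) (hb : b ∈ (P : Subgroup G)) :
    a * b = b * a := by
  have := (IsKleinFour.isMulCommutative (G := (P : Subgroup G))).is_comm.comm ⟨a, ha⟩ ⟨b, hb⟩
  exact congrArg Subtype.val this

theorem klein_eq_mul {x y z : G} (hx : x ∈ (P : Subgroup G)) (hy : y ∈ (P : Subgroup G))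
    (hz : z ∈ (P : Subgroup G)) (hx1 : x ≠ 1) (hy1 : y ≠ 1) (hxy : x ≠ y) (hz1 : z ≠ 1)
    (hzx : z ≠ x) (hzy : z ≠ y) : z = x * y := by
  have := IsKleinFour.eq_mul_of_ne_all (x := (⟨x, hx⟩ : (P : Subgroup G))) (y := ⟨y, hy⟩)
    (z := ⟨z, hz⟩) (by simpa [Subtype.ext_iff] using hx1) (by simpa [Subtype.ext_iff] using hy1)
    (by simpa [Subtype.ext_iff] using hxy) (by simpa [Subtype.ext_iff] using hz1)
    (by simpa [Subtype.ext_iff] using hzx) (by simpa [Subtype.ext_iff] using hzy)
  exact congrArg Subtype.val this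

/-- there is a third involution -/
theorem klein_exists_other {x : G} (hx : x ∈ (P : Subgroup G)) :
    ∃ a ∈ (P : Subgroup G), a ≠ 1 ∧ a ≠ x := by
  classical
  by_contra hcon
  push Not at hcon
  have h4 : Nat.card (P : Subgroup G) = 4 := IsKleinFour.card_four
  have hle : Nat.card (P : Subgroup G) ≤ 2 := by
    haveI := Fintype.ofFinite (P : Subgroup G)
    rw [Nat.card_eq_fintype_card]
    have : (Finset.univ : Finset (P : Subgroup G)) ⊆ {1, ⟨x, hx⟩} := by
      intro a _
      by_cases h1 : (a : G) = 1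
      · simp [Subtype.ext_iff, h1]
      · have := hcon a a.2 h1
        simp [Subtype.ext_iff, this]
    exact (Finset.card_le_card this).trans Finset.card_le_two
  omega

/-- An element of the normalizer of a Klein four Sylow subgroup fixing one involution
centralizes the subgroup. -/
theorem klein_centralizes_of_fix {g x : G} (hg : g ∈ Subgroup.normalizer ((P : Subgroup G) : Set G))
    (hx : x ∈ (P : Subgroup G)) (hx1 : x ≠ 1) (hgx : g * x * g⁻¹ = x) :
    ∀ y ∈ (P : Subgroup G), g * y * g⁻¹ = y := by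
  intro y hy
  by_cases hy1 : y = 1
  · simp [hy1]
  by_cases hyx : y = x
  · rw [hyx, hgx]
  by_contra hne
  have hmem : g * y * g⁻¹ ∈ (P : Subgroup G) := (Subgroup.mem_normalizer_iff.1 hg y).1 hy
  have h1 : g * y * g⁻¹ ≠ 1 := by
    intro h
    apply hy1
    have := congrArg (fun z => g⁻¹ * z * g) h
    simpa [mul_assoc] using this
  have h2 : g * y * g⁻¹ ≠ x := by
    intro h
    apply hyx
    rw [← hgx] at h
    have := congrArg (fun z => g⁻¹ * z * g) h
    simpa [mul_assoc] using this
  have h3 : g * y * g⁻¹ = x * y := klein_eq_mul P hx hy hmem hx1 hy1 (Ne.symm hyx) h1 h2 hne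
  have hpow : ∀ k : ℕ, g ^ k * y * (g ^ k)⁻¹ = x ^ k * y := by
    intro k
    induction k with
    | zero => simp
    | succ k ih =>
      calc g ^ (k + 1) * y * (g ^ (k + 1))⁻¹ = g * (g ^ k * y * (g ^ k)⁻¹) * g⁻¹ := by
            rw [pow_succ']; group
        _ = g * (x ^ k * y) * g⁻¹ := by rw [ih]
        _ = (g * x * g⁻¹) ^ k * (g * y * g⁻¹) := by rw [conj_pow]; group
        _ = x ^ (k + 1) * y := by rw [hgx, h3, pow_succ, mul_assoc]
  obtain ⟨t, ht, hgt⟩ := exists_odd_pow_mem_sylow P g hg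
  have h4 := hpow t
  have h5 : g ^ t * y * (g ^ t)⁻¹ = y := by
    rw [klein_comm P hgt hy]; group
  rw [h5] at h4
  have h6 : x ^ t = 1 := by
    have := congrArg (fun z => z * y⁻¹) h4
    simpa using this.symm
  obtain ⟨m, rfl⟩ := ht
  rw [pow_succ, pow_mul, pow_two, klein_mul_self P hx, one_pow, one_mul] at h6
  exact hx1 h6

end klein


section noOrderFour

variable {G : Type*} [Group G] [Finite G] (P : Sylow 2 G) [hK : IsKleinFour (P : Subgroup G)]

include hK

/-- `2`-elements have square one. -/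
theorem klein_two_element_sq {x : G} {k : ℕ} (hx : orderOf x = 2 ^ k) : x * x = 1 := by
  obtain ⟨c, hc⟩ := exists_conj_mem_sylow P x k hx
  have := klein_mul_self P hc
  have h2 := congrArg (fun z => c⁻¹ * z * c) this
  simpa [mul_assoc] using h2

/-- if the order of `w` is even, half of it is odd -/
theorem klein_half_order_odd {w : G} (hw : Even (orderOf w)) : Odd (orderOf w / 2) := by
  by_contra hcon
  rw [Nat.not_odd_iff_even] at hcon
  obtain ⟨m, hm⟩ := hw
  have hm2 : orderOf w / 2 = m := by omega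
  rw [hm2] at hcon
  obtain ⟨r, hr⟩ := hcon
  have hpos := orderOf_pos w
  have hr0 : r ≠ 0 := by omega
  have h4 : orderOf w = r * 4 := by omega
  have ho : orderOf (w ^ r) = 2 ^ 2 := by
    rw [orderOf_pow_of_dvd hr0 (Dvd.intro _ h4.symm), h4]
    rw [Nat.mul_div_cancel_left _ (Nat.pos_of_ne_zero hr0)]
    norm_num
  have h1 := klein_two_element_sq P ho
  have h2 : orderOf (w ^ r) ∣ 2 := orderOf_dvd_of_pow_eq_one (by rw [pow_two]; exact h1)
  rw [ho] at h2
  norm_num at h2

end noOrderFour

section central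

variable {C : Type*} [Group C] [Finite C] (Q : Sylow 2 C) [hK : IsKleinFour (Q : Subgroup C)]

include hK

/-- If a Klein four Sylow subgroup contains a central involution, there is a retraction of the group
onto it killing all elements of odd order. -/
theorem klein_exists_retraction {J : C} (hJQ : J ∈ (Q : Subgroup C)) (hJ1 : J ≠ 1)
    (hJc : ∀ c : C, c * J = J * c) :
    ∃ τ : C →* C, (∀ c, τ c ∈ (Q : Subgroup C)) ∧ (∀ x ∈ (Q : Subgroup C), τ x = x) ∧
      Odd (Nat.card τ.ker) ∧ τ.ker.index = 4 := by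
  haveI : Fact (Nat.Prime 2) := ⟨Nat.prime_two⟩
  have hN : Subgroup.normalizer (Q : Set C) ≤ Subgroup.centralizer (Q : Set C) := by
    intro g hg
    rw [Subgroup.mem_centralizer_iff]
    intro y hy
    have := klein_centralizes_of_fix Q hg hJQ hJ1 (by rw [hJc g]; group) y hy
    rw [mul_inv_eq_iff_eq_mul] at this
    exact this.symm
  have hker : ((Q : Subgroup C).subtype.comp (MonoidHom.transferSylow Q hN)).ker
      = (MonoidHom.transferSylow Q hN).ker := by
    ext c
    simp [MonoidHom.mem_ker]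
  refine ⟨(Q : Subgroup C).subtype.comp (MonoidHom.transferSylow Q hN), fun c => ?_, fun x hx => ?_,
    ?_, ?_⟩
  · exact (MonoidHom.transferSylow Q hN c).2
  · simp only [MonoidHom.comp_apply, Subgroup.coe_subtype]
    rw [MonoidHom.transferSylow_eq_pow Q hN x hx]
    simp only
    have hodd : Odd (Q : Subgroup C).index := by
      rw [← Nat.not_even_iff_odd, even_iff_two_dvd]
      exact Q.not_dvd_index
    obtain ⟨m, hm⟩ := hodd
    rw [hm, pow_succ, pow_mul, pow_two, klein_mul_self Q hx, one_pow, one_mul]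
  · rw [hker, ← Nat.not_even_iff_odd, even_iff_two_dvd]
    exact MonoidHom.not_dvd_card_ker_transferSylow Q hN
  · rw [hker, (MonoidHom.ker_transferSylow_isComplement' Q hN).symm.index_eq_card]
    exact IsKleinFour.card_four

end central


/-- class size = index of the centralizer, as a cardinality of a subtype -/
theorem card_isConj_eq_index {G : Type*} [Group G] (x : G) :
    Nat.card {u : G // IsConj x u} = (Subgroup.centralizer ({x} : Set G)).index := by
  classical
  have h : (Subgroup.centralizer ({x} : Set G)).index = (ConjClasses.mk x).carrier.ncard := by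
    rw [← ConjAct.orbit_eq_carrier_conjClasses,
      ← MulAction.index_stabilizer, Subgroup.centralizer_eq_comap_stabilizer]
    exact Subgroup.index_comap_of_surjective _ (ConjAct.toConjAct (G := G)).surjective
  rw [h, ← Nat.card_coe_set_eq]
  apply Nat.card_congr
  refine Equiv.subtypeEquivRight fun u => ?_
  rw [ConjClasses.mem_carrier_iff_mk_eq, ConjClasses.mk_eq_mk_iff_isConj]
  exact ⟨fun h => h.symm, fun h => h.symm⟩

section count

variable {C : Type*} [Group C] [Finite C] (Q : Sylow 2 C) [hK : IsKleinFour (Q : Subgroup C)]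
  (τ : C →* C) (hτQ : ∀ c, τ c ∈ (Q : Subgroup C)) (hτid : ∀ x ∈ (Q : Subgroup C), τ x = x)

include hK hτQ

theorem tau_conj (c x : C) : τ (c * x * c⁻¹) = τ x := by
  rw [map_mul, map_mul, map_inv, klein_comm Q (hτQ c) (hτQ x)]
  group

theorem tau_of_odd {c : C} (hc : Odd (orderOf c)) : τ c = 1 := by
  rw [← orderOf_eq_one_iff]
  have h1 : orderOf (τ c) ∣ orderOf c := orderOf_map_dvd τ c
  have h2 : orderOf (τ c) ∣ 2 :=
    orderOf_dvd_of_pow_eq_one (by rw [pow_two]; exact klein_mul_self Q (hτQ c))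
  exact Nat.eq_one_of_dvd_coprimes (Nat.coprime_two_right.2 hc) h1 h2

include hτid

theorem invol_conj_tau {z : C} (hz : orderOf z = 2) : ∃ c, c * z * c⁻¹ = τ z := by
  obtain ⟨c, hc⟩ := exists_conj_mem_sylow Q z 1 (by simpa using hz)
  refine ⟨c, ?_⟩
  rw [← tau_conj Q τ hτQ c z, hτid _ hc]

theorem tau_invol_ne_one {z : C} (hz : orderOf z = 2) : τ z ≠ 1 := by
  obtain ⟨c, hc⟩ := invol_conj_tau Q τ hτQ hτid hz
  intro h
  rw [h] at hc
  have : z = 1 := by
    have := congrArg (fun y => c⁻¹ * y * c) hc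
    simpa [mul_assoc] using this
  rw [this, orderOf_one] at hz
  norm_num at hz

theorem tau_eq_iff {J : C} (hJQ : J ∈ (Q : Subgroup C)) (hJ1 : J ≠ 1)
    (hJc : ∀ c : C, c * J = J * c) (w : C) :
    (Even (orderOf w) ∧ w ^ (orderOf w / 2) = J) ↔ τ w = J := by
  have hoddpow : ∀ (x : C), x ∈ (Q : Subgroup C) → ∀ m : ℕ, Odd m → x ^ m = x := by
    intro x hx m hm
    obtain ⟨r, rfl⟩ := hm
    rw [pow_succ, pow_mul, pow_two, klein_mul_self Q hx, one_pow, one_mul]
  constructor
  · rintro ⟨hev, hw⟩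
    have hodd := klein_half_order_odd Q hev
    have h1 : τ w ^ (orderOf w / 2) = J := by rw [← map_pow, hw, hτid J hJQ]
    rwa [hoddpow _ (hτQ w) _ hodd] at h1
  · intro hw
    have hev : Even (orderOf w) := by
      by_contra hcon
      rw [Nat.not_even_iff_odd] at hcon
      rw [tau_of_odd Q τ hτQ hcon] at hw
      exact hJ1 hw.symm
    refine ⟨hev, ?_⟩
    have hodd := klein_half_order_odd Q hev
    have hpos := orderOf_pos w
    have hz : orderOf (w ^ (orderOf w / 2)) = 2 := by
      obtain ⟨m, hm⟩ := hev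
      have hm2 : orderOf w / 2 = m := by omega
      rw [hm2, orderOf_pow_of_dvd (by omega) (Dvd.intro _ (by omega : m * 2 = orderOf w))]
      apply Nat.div_eq_of_eq_mul_left (by omega)
      omega
    obtain ⟨c, hc⟩ := invol_conj_tau Q τ hτQ hτid hz
    rw [map_pow, hw, hoddpow J hJQ _ hodd] at hc
    have := congrArg (fun y => c⁻¹ * y * c) hc
    have h3 : c⁻¹ * J * c = J := by rw [hJc c⁻¹]; group
    rw [h3] at this
    rw [← this]
    group

/-- the involutions with given image under the retraction form a conjugacy class -/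
theorem invol_tau_iff {x : C} (hx : x ∈ (Q : Subgroup C)) (hx1 : x ≠ 1) (u : C) :
    (orderOf u = 2 ∧ τ u = x) ↔ IsConj x u := by
  constructor
  · rintro ⟨hu, rfl⟩
    obtain ⟨c, hc⟩ := invol_conj_tau Q τ hτQ hτid hu
    exact (isConj_iff.2 ⟨c, hc⟩).symm
  · intro h
    obtain ⟨c, rfl⟩ := isConj_iff.1 h
    refine ⟨?_, by rw [tau_conj Q τ hτQ, hτid x hx]⟩
    have h1 : orderOf (c * x * c⁻¹) = orderOf x := by
      have := orderOf_injective (MulAut.conj c).toMonoidHom (MulAut.conj c).injective x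
      simpa using this
    rw [h1]
    exact orderOf_eq_prime (by rw [pow_two]; exact klein_mul_self Q hx) hx1

theorem klein_centralizer_eq {J a : C} (hJQ : J ∈ (Q : Subgroup C)) (hJ1 : J ≠ 1)
    (hJc : ∀ c : C, c * J = J * c) (ha : a ∈ (Q : Subgroup C)) (ha1 : a ≠ 1) (haJ : a ≠ J) :
    Subgroup.centralizer ({a} : Set C) = Subgroup.centralizer ((Q : Subgroup C) : Set C) := by
  apply le_antisymm
  · intro c hc
    rw [Subgroup.mem_centralizer_singleton_iff] at hc
    rw [Subgroup.mem_centralizer_iff]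
    intro y hy
    by_cases hy1 : y = 1
    · simp [hy1]
    by_cases hyJ : y = J
    · rw [hyJ]; exact (hJc c).symm
    by_cases hya : y = a
    · rw [hya]; exact hc.symm
    rw [klein_eq_mul Q hJQ ha hy hJ1 ha1 (Ne.symm haJ) hy1 hyJ hya]
    rw [mul_assoc, ← hc, ← mul_assoc, ← hJc c, mul_assoc]
  · exact Subgroup.centralizer_le (by
      intro x hx
      rw [Set.mem_singleton_iff] at hx
      rw [hx]
      exact ha)

/-- The number of pairs of involutions whose product has `2`-part the central involution `J`. -/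
theorem klein_count {J : C} (hJQ : J ∈ (Q : Subgroup C)) (hJ1 : J ≠ 1)
    (hJc : ∀ c : C, c * J = J * c) :
    Nat.card {uv : C × C // orderOf uv.1 = 2 ∧ orderOf uv.2 = 2 ∧ Even (orderOf (uv.1 * uv.2)) ∧
      (uv.1 * uv.2) ^ (orderOf (uv.1 * uv.2) / 2) = J}
      = 2 * (Subgroup.centralizer ((Q : Subgroup C) : Set C)).index ^ 2 := by
  classical
  haveI := Fintype.ofFinite C
  obtain ⟨a, ha, ha1, haJ⟩ := klein_exists_other Q hJQ
  have hb : J * a ∈ (Q : Subgroup C) := Subgroup.mul_mem _ hJQ ha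
  have hb1 : J * a ≠ 1 := by
    intro h
    apply haJ
    have := klein_mul_self Q hJQ
    have h2 : J * a = J * J := by rw [h, this]
    exact mul_left_cancel h2
  have hbJ : J * a ≠ J := by
    intro h
    exact ha1 (by simpa using h)
  have hba : J * a ≠ a := by
    intro h
    exact hJ1 (by simpa using h)
  have hcard : ∀ x ∈ (Q : Subgroup C), x ≠ 1 → x ≠ J →
      (Finset.univ.filter fun u : C => orderOf u = 2 ∧ τ u = x).card
        = (Subgroup.centralizer ((Q : Subgroup C) : Set C)).index := by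
    intro x hx hx1 hxJ
    rw [← klein_centralizer_eq Q τ hτQ hτid hJQ hJ1 hJc hx hx1 hxJ, ← card_isConj_eq_index,
      Nat.card_eq_fintype_card, Fintype.card_subtype]
    congr 1
    ext u
    simp only [Finset.mem_filter, Finset.mem_univ, true_and]
    exact invol_tau_iff Q τ hτQ hτid hx hx1 u
  rw [Nat.card_eq_fintype_card, Fintype.card_subtype]
  have hset : (Finset.univ.filter fun uv : C × C => orderOf uv.1 = 2 ∧ orderOf uv.2 = 2 ∧
      Even (orderOf (uv.1 * uv.2)) ∧ (uv.1 * uv.2) ^ (orderOf (uv.1 * uv.2) / 2) = J)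
      = ((Finset.univ.filter fun u : C => orderOf u = 2 ∧ τ u = a) ×ˢ
          (Finset.univ.filter fun u : C => orderOf u = 2 ∧ τ u = J * a)) ∪
        ((Finset.univ.filter fun u : C => orderOf u = 2 ∧ τ u = J * a) ×ˢ
          (Finset.univ.filter fun u : C => orderOf u = 2 ∧ τ u = a)) := by
    ext ⟨u, v⟩
    simp only [Finset.mem_filter, Finset.mem_univ, true_and, Finset.mem_union, Finset.mem_product]
    rw [tau_eq_iff Q τ hτQ hτid hJQ hJ1 hJc, map_mul]
    constructor
    · rintro ⟨hu, hv, huv⟩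
      have hu1 := tau_invol_ne_one Q τ hτQ hτid hu
      have hv1 := tau_invol_ne_one Q τ hτQ hτid hv
      have huJ : τ u ≠ J := by
        intro h
        rw [h] at huv
        exact hv1 (by simpa using huv)
      by_cases hua : τ u = a
      · left
        refine ⟨⟨hu, hua⟩, hv, ?_⟩
        rw [hua] at huv
        have : a * (a * τ v) = a * J := by rw [huv]
        rw [← mul_assoc, klein_mul_self Q ha, one_mul] at this
        rw [this, klein_comm Q ha hJQ]
      · right
        have hub : τ u = J * a := klein_eq_mul Q hJQ ha (hτQ u) hJ1 ha1 (Ne.symm haJ) hu1 huJ hua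
        refine ⟨⟨hu, hub⟩, hv, ?_⟩
        rw [hub] at huv
        have : (J * a) * ((J * a) * τ v) = (J * a) * J := by rw [huv]
        rw [← mul_assoc, klein_mul_self Q hb, one_mul] at this
        rw [this, klein_comm Q hJQ ha, mul_assoc, klein_mul_self Q hJQ, mul_one]
    · rintro (⟨⟨hu, hua⟩, hv, hvb⟩ | ⟨⟨hu, hub⟩, hv, hva⟩)
      · refine ⟨hu, hv, ?_⟩
        rw [hua, hvb, klein_comm Q hJQ ha, ← mul_assoc, klein_mul_self Q ha, one_mul]
      · refine ⟨hu, hv, ?_⟩
        rw [hub, hva, mul_assoc, klein_mul_self Q ha, mul_one]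
  rw [hset, Finset.card_union_of_disjoint, Finset.card_product, Finset.card_product,
    hcard a ha ha1 haJ, hcard (J * a) hb hb1 hbJ]
  · ring
  · rw [Finset.disjoint_left]
    rintro ⟨u, v⟩ h1 h2
    simp only [Finset.mem_filter, Finset.mem_univ, true_and, Finset.mem_product] at h1 h2
    exact hba (h2.1.2.symm.trans h1.1.2)

end count

section ambient

variable {G : Type*} [Group G] [Finite G] (P : Sylow 2 G) [hK : IsKleinFour (P : Subgroup G)]

include hK

theorem klein_le_centralizer {J : G} (hJ : J ∈ (P : Subgroup G)) :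
    (P : Subgroup G) ≤ Subgroup.centralizer ({J} : Set G) := by
  intro x hx
  rw [Subgroup.mem_centralizer_singleton_iff]
  exact klein_comm P hx hJ

theorem klein_subtype_isKleinFour {J : G} (hJ : J ∈ (P : Subgroup G)) :
    IsKleinFour ((P.subtype (klein_le_centralizer P hJ) : Sylow 2 (Subgroup.centralizer ({J} : Set G))) :
      Subgroup (Subgroup.centralizer ({J} : Set G))) := by
  have e : ((P : Subgroup G).subgroupOf (Subgroup.centralizer ({J} : Set G))) ≃* (P : Subgroup G) :=
    Subgroup.subgroupOfEquivOfLe (klein_le_centralizer P hJ)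
  refine ⟨?_, ?_⟩
  · rw [Sylow.coe_subtype, Nat.card_congr e.toEquiv]
    exact IsKleinFour.card_four
  · rw [Sylow.coe_subtype, Monoid.exponent_eq_of_mulEquiv e]
    exact IsKleinFour.exponent_two

/-- The centralizer of an involution of a Klein four Sylow subgroup retracts onto the Sylow
subgroup. -/
theorem klein_centralizer_retraction {J : G} (hJ : J ∈ (P : Subgroup G)) (hJ1 : J ≠ 1) :
    ∃ τ : Subgroup.centralizer ({J} : Set G) →* Subgroup.centralizer ({J} : Set G),
      (∀ c, ((τ c : Subgroup.centralizer ({J} : Set G)) : G) ∈ (P : Subgroup G)) ∧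
      (∀ x : Subgroup.centralizer ({J} : Set G), (x : G) ∈ (P : Subgroup G) → τ x = x) ∧
      Odd (Nat.card τ.ker) ∧ τ.ker.index = 4 := by
  haveI := klein_subtype_isKleinFour P hJ
  have hJC : J ∈ Subgroup.centralizer ({J} : Set G) := klein_le_centralizer P hJ hJ
  obtain ⟨τ, h1, h2, h3, h4⟩ := klein_exists_retraction (P.subtype (klein_le_centralizer P hJ))
    (J := ⟨J, hJC⟩) (by rw [Sylow.coe_subtype, Subgroup.mem_subgroupOf]; exact hJ)
    (by simpa [Subtype.ext_iff] using hJ1) (by
      intro c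
      apply Subtype.ext
      exact Subgroup.mem_centralizer_singleton_iff.1 c.2)
  refine ⟨τ, fun c => ?_, fun x hx => ?_, h3, h4⟩
  · have := h1 c
    rwa [Sylow.coe_subtype, Subgroup.mem_subgroupOf] at this
  · apply h2
    rw [Sylow.coe_subtype, Subgroup.mem_subgroupOf]
    exact hx

/-- The centralizer of an involution of a Klein four Sylow subgroup has a normal `2`-complement. -/
theorem klein_centralizer_complement {J : G} (hJ : J ∈ (P : Subgroup G)) (hJ1 : J ≠ 1) :
    ∃ K : Subgroup (Subgroup.centralizer ({J} : Set G)), K.Normal ∧ Odd (Nat.card K) ∧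
      K.index = 4 ∧ ∀ y : Subgroup.centralizer ({J} : Set G), Odd (orderOf y) → y ∈ K := by
  haveI := klein_subtype_isKleinFour P hJ
  have hJC : J ∈ Subgroup.centralizer ({J} : Set G) := klein_le_centralizer P hJ hJ
  obtain ⟨τ, h1, h2, h3, h4⟩ := klein_exists_retraction (P.subtype (klein_le_centralizer P hJ))
    (J := ⟨J, hJC⟩) (by rw [Sylow.coe_subtype, Subgroup.mem_subgroupOf]; exact hJ)
    (by simpa [Subtype.ext_iff] using hJ1) (by
      intro c
      apply Subtype.ext
      exact Subgroup.mem_centralizer_singleton_iff.1 c.2)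
  exact ⟨τ.ker, inferInstance, h3, h4, fun y hy =>
    tau_of_odd (P.subtype (klein_le_centralizer P hJ)) τ h1 hy⟩

/-- If the product of two involutions has `2`-part `J`, both centralize `J`. -/
theorem invol_pair_commute {u v J : G} (hu : orderOf u = 2) (hv : orderOf v = 2) (hJJ : J * J = 1)
    (hJ : (u * v) ^ (orderOf (u * v) / 2) = J) : u * J = J * u ∧ v * J = J * v := by
  have hu2 : u * u = 1 := by rw [← pow_two, ← hu]; exact pow_orderOf_eq_one u
  have hv2 : v * v = 1 := by rw [← pow_two, ← hv]; exact pow_orderOf_eq_one v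
  have huinv : u⁻¹ = u := inv_eq_of_mul_eq_one_left hu2
  have hvinv : v⁻¹ = v := inv_eq_of_mul_eq_one_left hv2
  have hJinv : J⁻¹ = J := inv_eq_of_mul_eq_one_left hJJ
  have h1 : u * (u * v) * u⁻¹ = (u * v)⁻¹ := by
    rw [mul_inv_rev, huinv, hvinv, ← mul_assoc, hu2, one_mul]
  have h2 : u * J * u⁻¹ = J := by
    rw [← hJ, ← conj_pow, h1, inv_pow, hJ, hJinv]
  have hu' : u * J = J * u := by rwa [mul_inv_eq_iff_eq_mul] at h2
  have hw : (u * v) * J = J * (u * v) := by
    rw [← hJ, ← pow_succ', ← pow_succ]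
  refine ⟨hu', ?_⟩
  have : u * (v * J) = u * (J * v) := by
    rw [← mul_assoc, hw, ← mul_assoc, ← mul_assoc, hu']
  exact mul_left_cancel this

/-- The number of pairs of involutions of `G` whose product has `2`-part `J`. -/
theorem klein_pair_count {J : G} (hJ : J ∈ (P : Subgroup G)) (hJ1 : J ≠ 1) :
    Nat.card {uv : G × G // orderOf uv.1 = 2 ∧ orderOf uv.2 = 2 ∧ Even (orderOf (uv.1 * uv.2)) ∧
      (uv.1 * uv.2) ^ (orderOf (uv.1 * uv.2) / 2) = J}
      = 2 * ((Subgroup.centralizer ((P : Subgroup G) : Set G)).relIndex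
          (Subgroup.centralizer ({J} : Set G))) ^ 2 := by
  haveI := klein_subtype_isKleinFour P hJ
  have hPC := klein_le_centralizer P hJ
  have hJC : J ∈ Subgroup.centralizer ({J} : Set G) := hPC hJ
  have hJQ : (⟨J, hJC⟩ : Subgroup.centralizer ({J} : Set G)) ∈
      ((P.subtype hPC : Sylow 2 (Subgroup.centralizer ({J} : Set G))) :
        Subgroup (Subgroup.centralizer ({J} : Set G))) := by
    rw [Sylow.coe_subtype, Subgroup.mem_subgroupOf]; exact hJ
  have hJ1' : (⟨J, hJC⟩ : Subgroup.centralizer ({J} : Set G)) ≠ 1 := by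
    simpa [Subtype.ext_iff] using hJ1
  have hJc : ∀ c : Subgroup.centralizer ({J} : Set G), c * ⟨J, hJC⟩ = ⟨J, hJC⟩ * c := by
    intro c
    apply Subtype.ext
    exact Subgroup.mem_centralizer_singleton_iff.1 c.2
  obtain ⟨τ, h1, h2, -, -⟩ := klein_exists_retraction (P.subtype hPC) hJQ hJ1' hJc
  have hcount := klein_count (P.subtype hPC) τ h1 h2 hJQ hJ1' hJc
  have hcent : Subgroup.centralizer (((P.subtype hPC : Sylow 2 (Subgroup.centralizer ({J} : Set G))) :
      Subgroup (Subgroup.centralizer ({J} : Set G))) : Set (Subgroup.centralizer ({J} : Set G)))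
      = (Subgroup.centralizer ((P : Subgroup G) : Set G)).subgroupOf
          (Subgroup.centralizer ({J} : Set G)) := by
    ext c
    rw [Subgroup.mem_subgroupOf, Subgroup.mem_centralizer_iff, Subgroup.mem_centralizer_iff]
    constructor
    · intro h y hy
      have := h ⟨y, hPC hy⟩ (by
        change (⟨y, hPC hy⟩ : Subgroup.centralizer ({J} : Set G)) ∈
          (P : Subgroup G).subgroupOf (Subgroup.centralizer ({J} : Set G))
        rw [Subgroup.mem_subgroupOf]; exact hy)
      exact congrArg Subtype.val this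
    · intro h y hy
      apply Subtype.ext
      exact h y (by
        have : y ∈ (P : Subgroup G).subgroupOf (Subgroup.centralizer ({J} : Set G)) := hy
        rwa [Subgroup.mem_subgroupOf] at this)
  rw [hcent] at hcount
  rw [Subgroup.relIndex, ← hcount]
  symm
  refine Nat.card_congr (Equiv.ofBijective (fun x => ⟨((x.1.1 : G), (x.1.2 : G)), ?_⟩) ⟨?_, ?_⟩)
  · obtain ⟨⟨u, v⟩, hu, hv, hev, hpow⟩ := x
    simp only at hu hv hev hpow ⊢
    rw [← Subgroup.orderOf_coe] at hu hv hev
    rw [← Subgroup.orderOf_coe (u * v)] at hpow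
    refine ⟨hu, hv, hev, ?_⟩
    exact congrArg Subtype.val hpow
  · rintro ⟨⟨u, v⟩, hx⟩ ⟨⟨u', v'⟩, hx'⟩ h
    simp only [Subtype.mk.injEq, Prod.mk.injEq] at h
    apply Subtype.ext
    simp only [Prod.mk.injEq]
    exact ⟨Subtype.ext h.1, Subtype.ext h.2⟩
  · rintro ⟨⟨u, v⟩, hu, hv, hev, hpow⟩
    simp only at hu hv hev hpow
    obtain ⟨hcu, hcv⟩ := invol_pair_commute P hu hv (klein_mul_self P hJ) hpow
    refine ⟨⟨(⟨u, Subgroup.mem_centralizer_singleton_iff.2 hcu⟩,
      ⟨v, Subgroup.mem_centralizer_singleton_iff.2 hcv⟩), ?_⟩, rfl⟩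
    simp only
    refine ⟨by rw [← Subgroup.orderOf_coe]; exact hu, by rw [← Subgroup.orderOf_coe]; exact hv,
      by rw [← Subgroup.orderOf_coe]; exact hev, ?_⟩
    apply Subtype.ext
    rw [← Subgroup.orderOf_coe]
    exact hpow

omit hK [Finite G] in
theorem orderOf_conj' (g x : G) : orderOf (g * x * g⁻¹) = orderOf x := by
  have := orderOf_injective (MulAut.conj g).toMonoidHom (MulAut.conj g).injective x
  simpa using this

omit hK [Finite G] in
/-- conjugation invariance of the fibre counts -/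
theorem pair_count_conj (g J : G) :
    Nat.card {uv : G × G // orderOf uv.1 = 2 ∧ orderOf uv.2 = 2 ∧ Even (orderOf (uv.1 * uv.2)) ∧
      (uv.1 * uv.2) ^ (orderOf (uv.1 * uv.2) / 2) = J}
    = Nat.card {uv : G × G // orderOf uv.1 = 2 ∧ orderOf uv.2 = 2 ∧ Even (orderOf (uv.1 * uv.2)) ∧
      (uv.1 * uv.2) ^ (orderOf (uv.1 * uv.2) / 2) = g * J * g⁻¹} := by
  refine Nat.card_congr (Equiv.subtypeEquiv
    (Equiv.prodCongr (MulAut.conj g).toEquiv (MulAut.conj g).toEquiv) ?_)
  rintro ⟨u, v⟩
  simp only [Equiv.prodCongr_apply, Prod.map_apply, MulEquiv.toEquiv_eq_coe, MulEquiv.coe_toEquiv,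
    MulAut.conj_apply]
  have h1 : g * u * g⁻¹ * (g * v * g⁻¹) = g * (u * v) * g⁻¹ := by group
  rw [h1, orderOf_conj', orderOf_conj', orderOf_conj', conj_pow]
  constructor
  · rintro ⟨a, b, c, d⟩
    exact ⟨a, b, c, by rw [d]⟩
  · rintro ⟨a, b, c, d⟩
    refine ⟨a, b, c, ?_⟩
    have := congrArg (fun y => g⁻¹ * y * g) d
    simpa [mul_assoc] using this

/-- The number of pairs of involutions with product of even order, when all involutions are
conjugate. -/
theorem klein_total_count (hone : ∀ s t : G, orderOf s = 2 → orderOf t = 2 → IsConj s t)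
    {J : G} (hJ : J ∈ (P : Subgroup G)) (hJ1 : J ≠ 1) :
    Nat.card {uv : G × G // orderOf uv.1 = 2 ∧ orderOf uv.2 = 2 ∧ Even (orderOf (uv.1 * uv.2))}
      = (Subgroup.centralizer ({J} : Set G)).index *
        (2 * ((Subgroup.centralizer ((P : Subgroup G) : Set G)).relIndex
          (Subgroup.centralizer ({J} : Set G))) ^ 2) := by
  classical
  haveI := Fintype.ofFinite G
  have hJo : orderOf J = 2 := orderOf_eq_prime (by rw [pow_two]; exact klein_mul_self P hJ) hJ1
  rw [Nat.card_eq_fintype_card, Fintype.card_subtype]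
  rw [Finset.card_eq_sum_card_fiberwise (f := fun uv : G × G =>
    (uv.1 * uv.2) ^ (orderOf (uv.1 * uv.2) / 2)) (t := Finset.univ.filter fun z : G => orderOf z = 2)]
  · have hfib : ∀ z ∈ Finset.univ.filter (fun z : G => orderOf z = 2),
        ((Finset.univ.filter fun uv : G × G => orderOf uv.1 = 2 ∧ orderOf uv.2 = 2 ∧
          Even (orderOf (uv.1 * uv.2))).filter fun uv : G × G =>
            (uv.1 * uv.2) ^ (orderOf (uv.1 * uv.2) / 2) = z).card
        = 2 * ((Subgroup.centralizer ((P : Subgroup G) : Set G)).relIndex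
          (Subgroup.centralizer ({J} : Set G))) ^ 2 := by
      intro z hz
      simp only [Finset.mem_filter, Finset.mem_univ, true_and] at hz
      obtain ⟨g, rfl⟩ := isConj_iff.1 (hone J z hJo hz)
      rw [← klein_pair_count P hJ hJ1, pair_count_conj g J, Nat.card_eq_fintype_card,
        Fintype.card_subtype, Finset.filter_filter]
      congr 1
      ext uv
      simp only [Finset.mem_filter, Finset.mem_univ, true_and, and_assoc]
    rw [Finset.sum_congr rfl hfib, Finset.sum_const, smul_eq_mul]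
    congr 1
    rw [← card_isConj_eq_index, Nat.card_eq_fintype_card, Fintype.card_subtype]
    congr 1
    ext z
    simp only [Finset.mem_filter, Finset.mem_univ, true_and]
    constructor
    · intro hz; exact hone J z hJo hz
    · intro hz
      obtain ⟨g, rfl⟩ := isConj_iff.1 hz
      rw [orderOf_conj', hJo]
  · intro uv huv
    simp only [Finset.coe_filter, Finset.mem_univ, true_and, Set.mem_ofPred_eq] at huv ⊢
    obtain ⟨-, -, m, hm⟩ := huv
    have hpos := orderOf_pos (uv.1 * uv.2)
    have hm2 : orderOf (uv.1 * uv.2) / 2 = m := by omega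
    rw [hm2, orderOf_pow_of_dvd (by omega) (Dvd.intro _ (by omega : m * 2 = orderOf (uv.1 * uv.2)))]
    apply Nat.div_eq_of_eq_mul_left (by omega)
    omega

/-- If some element of the normalizer does not centralize the Klein four Sylow subgroup, all its
involutions are conjugate. -/
theorem klein_all_conj {g : G} (hg : g ∈ Subgroup.normalizer ((P : Subgroup G) : Set G))
    (hgn : ∃ y ∈ (P : Subgroup G), g * y * g⁻¹ ≠ y) {x y : G} (hx : x ∈ (P : Subgroup G))
    (hy : y ∈ (P : Subgroup G)) (hx1 : x ≠ 1) (hy1 : y ≠ 1) : IsConj x y := by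
  have hfix : ∀ z ∈ (P : Subgroup G), z ≠ 1 → g * z * g⁻¹ ≠ z := by
    intro z hz hz1 h
    obtain ⟨y', hy', hne⟩ := hgn
    exact hne (klein_centralizes_of_fix P hg hz hz1 h y' hy')
  have hmem : ∀ z ∈ (P : Subgroup G), g * z * g⁻¹ ∈ (P : Subgroup G) :=
    fun z hz => (Subgroup.mem_normalizer_iff.1 hg z).1 hz
  have hne1 : ∀ z : G, z ≠ 1 → g * z * g⁻¹ ≠ 1 := by
    intro z hz h
    apply hz
    have := congrArg (fun w => g⁻¹ * w * g) h
    simpa [mul_assoc] using this
  by_cases hyx : y = x
  · rw [hyx]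
  by_cases hya : y = g * x * g⁻¹
  · rw [hya]; exact isConj_iff.2 ⟨g, rfl⟩
  have ha := hmem x hx
  have ha1 := hne1 x hx1
  have hax := hfix x hx hx1
  have hyxa : y = x * (g * x * g⁻¹) := klein_eq_mul P hx ha hy hx1 ha1 (Ne.symm hax) hy1 hyx hya
  have hb := hmem _ ha
  have hb1 := hne1 _ ha1
  have hba := hfix _ ha ha1
  have hbx : g * (g * x * g⁻¹) * g⁻¹ ≠ x := by
    intro h
    have hxa : x * (g * x * g⁻¹) ∈ (P : Subgroup G) := Subgroup.mul_mem _ hx ha
    apply hfix _ hxa (by rw [← hyxa]; exact hy1)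
    calc g * (x * (g * x * g⁻¹)) * g⁻¹ = (g * x * g⁻¹) * (g * (g * x * g⁻¹) * g⁻¹) := by group
      _ = (g * x * g⁻¹) * x := by rw [h]
      _ = x * (g * x * g⁻¹) := klein_comm P ha hx
  have hbeq : g * (g * x * g⁻¹) * g⁻¹ = x * (g * x * g⁻¹) :=
    klein_eq_mul P hx ha hb hx1 ha1 (Ne.symm hax) hb1 hbx hba
  rw [hyxa, ← hbeq]
  exact isConj_iff.2 ⟨g * g, by group⟩

end ambient

/-- number theory: `2^r ∣ m^N - 1` with `N` odd forces `2^r ∣ m - 1`. -/
theorem two_pow_dvd_sub_one' (r N : ℕ) (m : ℤ) (hN : Odd N) (h : (2 : ℤ) ^ r ∣ m ^ N - 1) :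
    (2 : ℤ) ^ r ∣ m - 1 := by
  rcases Nat.eq_zero_or_pos r with rfl | hr
  · simp
  have h2 : (2 : ℤ) ∣ m ^ N - 1 := (dvd_pow_self 2 hr.ne').trans h
  have hm : Odd m := by
    by_contra hcon
    rw [Int.not_odd_iff_even] at hcon
    have h3 : Even (m ^ N) := hcon.pow_of_ne_zero (by rintro rfl; simp at hN)
    have h4 : Even (m ^ N - 1) := even_iff_two_dvd.2 h2
    have h5 : Even (1 : ℤ) := by
      have := h3.sub h4
      simp at this
    simp at h5
  rw [← geom_sum_mul] at h
  rw [mul_comm] at h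
  refine Prime.pow_dvd_of_dvd_mul_right Int.prime_two r ?_ h
  rw [← even_iff_two_dvd, Int.not_even_iff_odd]
  have key : ∀ k : ℕ, Odd (∑ i ∈ Finset.range k, m ^ i) ↔ Odd k := by
    intro k
    induction k with
    | zero => simp
    | succ k ih =>
      have h6 : ¬ Even (m ^ k) := Int.not_even_iff_odd.2 hm.pow
      rw [Finset.sum_range_succ, Int.odd_add, Nat.odd_add_one, ih]
      simp [h6]
  exact (key N).2 hN

section order4

variable {G : Type*} [Group G] [Finite G]

/-- A group of order `4 g₀`, `g₀` odd, without normal `2`-complement has Klein four Sylow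
`2`-subgroups and a single class of involutions. -/
theorem klein_of_no_complement (g₀ : ℕ) (hg₀ : Odd g₀) (hG : Nat.card G = 4 * g₀)
    (hnc : ¬ ∃ N : Subgroup G, N.Normal ∧ Nat.card N = g₀) (P : Sylow 2 G) :
    IsKleinFour (P : Subgroup G) ∧
      ∀ s t : G, orderOf s = 2 → orderOf t = 2 → IsConj s t := by
  haveI : Fact (Nat.Prime 2) := ⟨Nat.prime_two⟩
  have hg0 : g₀ ≠ 0 := by rintro rfl; simp at hg₀
  have hcard : Nat.card (P : Subgroup G) = 4 := by
    rw [P.card_eq_multiplicity, hG, Nat.factorization_mul (by norm_num) hg0]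
    have h1 : g₀.factorization 2 = 0 :=
      Nat.factorization_eq_zero_of_not_dvd (by rw [← even_iff_two_dvd, Nat.not_even_iff_odd]; exact hg₀)
    have h2 : (4 : ℕ).factorization 2 = 2 := by
      have : (4 : ℕ) = 2 ^ 2 := by norm_num
      rw [this, Nat.Prime.factorization_pow Nat.prime_two]
      simp
    simp [h1, h2]
  have hcomm : ∀ a ∈ (P : Subgroup G), ∀ b ∈ (P : Subgroup G), a * b = b * a := by
    intro a ha b hb
    have := (IsPGroup.isMulCommutative_of_card_eq_prime_sq (p := 2) (G := (P : Subgroup G))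
      (by rw [hcard]; norm_num)).is_comm.comm ⟨a, ha⟩ ⟨b, hb⟩
    exact congrArg Subtype.val this
  -- some element of the normalizer does not centralize `P`
  have hex : ∃ g ∈ Subgroup.normalizer ((P : Subgroup G) : Set G),
      ∃ y ∈ (P : Subgroup G), g * y * g⁻¹ ≠ y := by
    by_contra hcon
    push Not at hcon
    have hN : Subgroup.normalizer (P : Set G) ≤ Subgroup.centralizer (P : Set G) := by
      intro g hg
      rw [Subgroup.mem_centralizer_iff]
      intro y hy
      have := hcon g hg y hy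
      rw [mul_inv_eq_iff_eq_mul] at this
      exact this.symm
    apply hnc
    refine ⟨(MonoidHom.transferSylow P hN).ker, inferInstance, ?_⟩
    have h1 := (MonoidHom.ker_transferSylow_isComplement' P hN).card_mul_card
    rw [hG] at h1
    have h2 : Nat.card (P : Subgroup G) = 4 := hcard
    rw [h2] at h1
    omega
  obtain ⟨g, hg, hgn⟩ := hex
  -- exponent two
  have hexp : ∀ c ∈ (P : Subgroup G), c * c = 1 := by
    intro c hc
    by_contra hcc
    have ho4 : orderOf c = 4 := by
      have h1 : orderOf (⟨c, hc⟩ : (P : Subgroup G)) ∣ 4 := by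
        rw [← hcard]; exact orderOf_dvd_natCard _
      rw [Subgroup.orderOf_mk] at h1
      have h2 : orderOf c ∣ 2 ^ 2 := by norm_num; exact h1
      obtain ⟨k, hk, hk2⟩ := (Nat.dvd_prime_pow Nat.prime_two).1 h2
      interval_cases k
      · exfalso
        apply hcc
        have : c = 1 := orderOf_eq_one_iff.1 (by simpa using hk2)
        simp [this]
      · exfalso
        apply hcc
        rw [← pow_two]
        have : c ^ orderOf c = 1 := pow_orderOf_eq_one c
        rwa [hk2, pow_one] at this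
      · simpa using hk2
    have hPz : ∀ y ∈ (P : Subgroup G), y ∈ Subgroup.zpowers c := by
      have hle : Subgroup.zpowers c ≤ (P : Subgroup G) := by
        rw [Subgroup.zpowers_le]; exact hc
      have : Subgroup.zpowers c = (P : Subgroup G) := by
        apply Subgroup.eq_of_le_of_card_ge hle
        rw [hcard, Nat.card_zpowers, ho4]
      intro y hy
      rw [this]; exact hy
    have hgc : g * c * g⁻¹ ∈ (P : Subgroup G) := (Subgroup.mem_normalizer_iff.1 hg c).1 hc
    obtain ⟨m, hm⟩ := Subgroup.mem_zpowers_iff.1 (hPz _ hgc)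
    have hpow : ∀ k : ℕ, g ^ k * c * (g ^ k)⁻¹ = c ^ (m ^ k) := by
      intro k
      induction k with
      | zero => simp
      | succ k ih =>
        calc g ^ (k + 1) * c * (g ^ (k + 1))⁻¹ = g * (g ^ k * c * (g ^ k)⁻¹) * g⁻¹ := by
              rw [pow_succ']; group
          _ = g * (c ^ (m ^ k)) * g⁻¹ := by rw [ih]
          _ = (g * c * g⁻¹) ^ (m ^ k) := by rw [conj_zpow]
          _ = c ^ (m ^ (k + 1)) := by rw [← hm, ← zpow_mul, pow_succ']
    obtain ⟨t, ht, hgt⟩ := exists_odd_pow_mem_sylow P g hg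
    have h1 : c ^ (m ^ t) = c := by
      rw [← hpow t, hcomm _ hgt _ hc]; group
    have h2 : c ^ (m ^ t - 1) = 1 := by rw [zpow_sub, h1, zpow_one, mul_inv_cancel]
    have h3 : ((2 : ℤ) ^ 2) ∣ m ^ t - 1 := by
      have := orderOf_dvd_iff_zpow_eq_one.2 h2
      rw [ho4] at this
      exact_mod_cast this
    have h4 := two_pow_dvd_sub_one' 2 t m ht h3
    have h5 : c ^ (m - 1) = 1 := by
      apply orderOf_dvd_iff_zpow_eq_one.1
      rw [ho4]
      exact_mod_cast h4
    have h6 : g * c * g⁻¹ = c := by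
      rw [← hm]
      rw [zpow_sub, zpow_one, mul_inv_eq_one] at h5
      exact h5
    obtain ⟨y, hy, hne⟩ := hgn
    apply hne
    obtain ⟨j, rfl⟩ := Subgroup.mem_zpowers_iff.1 (hPz y hy)
    rw [← conj_zpow, h6]
  have hK : IsKleinFour (P : Subgroup G) := by
    refine ⟨hcard, ?_⟩
    haveI : Nontrivial (P : Subgroup G) := by
      rw [← Finite.one_lt_card_iff_nontrivial, hcard]; norm_num
    rw [Monoid.exponent_eq_prime_iff Nat.prime_two]
    intro x hx
    apply orderOf_eq_prime
    · rw [pow_two]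
      exact Subtype.ext (hexp x x.2)
    · exact hx
  refine ⟨hK, ?_⟩
  intro s t hs ht
  obtain ⟨c, hc⟩ := exists_conj_mem_sylow P s 1 (by simpa using hs)
  obtain ⟨d, hd⟩ := exists_conj_mem_sylow P t 1 (by simpa using ht)
  have hne : ∀ (e z : G), orderOf z = 2 → e * z * e⁻¹ ≠ 1 := by
    intro e z hz h
    have : z = 1 := by
      have := congrArg (fun w => e⁻¹ * w * e) h
      simpa [mul_assoc] using this
    rw [this, orderOf_one] at hz
    norm_num at hz
  have h1 := klein_all_conj P hg hgn hc hd (hne c s hs) (hne d t ht)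
  exact ((isConj_iff.2 ⟨c, rfl⟩).trans h1).trans (isConj_iff.2 ⟨d, rfl⟩).symm

end order4

end Cfsg.Agent.Lib.Helper74
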