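import Mathlib
import Cfsg.Agent.Lib.Helper74.KleinFour

/-!
# Klein four Sylow 2-subgroups: counting the elements of even order (helper74)
-/

set_option autoImplicit false
set_option linter.style.haveILetI false
set_option linter.unusedSectionVars false

namespace Cfsg.Agent.Lib.Helper74

section abstract

variable {C : Type*} [Group C] [Finite C] (Q : Sylow 2 C) [hK : IsKleinFour (Q : Subgroup C)]
  (τ : C →* C) (hτQ : ∀ c, τ c ∈ (Q : Subgroup C)) (hτid : ∀ x ∈ (Q : Subgroup C), τ x = x)

include hK hτQ hτid in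
theorem klein_section_count {J : C} (hJQ : J ∈ (Q : Subgroup C)) (hJ1 : J ≠ 1)
    (hJc : ∀ c : C, c * J = J * c) :
    Nat.card {w : C // Even (orderOf w) ∧ w ^ (orderOf w / 2) = J} = Nat.card τ.ker := by
  refine Nat.card_congr ?_
  refine ⟨fun w => ⟨J⁻¹ * w.1, ?_⟩, fun y => ⟨J * y.1, ?_⟩, ?_, ?_⟩
  · rw [MonoidHom.mem_ker, map_mul, map_inv, hτid J hJQ,
      (tau_eq_iff Q τ hτQ hτid hJQ hJ1 hJc w.1).1 w.2, inv_mul_cancel]
  · rw [tau_eq_iff Q τ hτQ hτid hJQ hJ1 hJc, map_mul, hτid J hJQ, MonoidHom.mem_ker.1 y.2, mul_one]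
  · intro w
    apply Subtype.ext
    simp
  · intro y
    apply Subtype.ext
    simp

end abstract

section ambient

variable {G : Type*} [Group G] [Finite G] (P : Sylow 2 G) [hK : IsKleinFour (P : Subgroup G)]

include hK

theorem klein_section_count' {J : G} (hJ : J ∈ (P : Subgroup G)) (hJ1 : J ≠ 1) :
    4 * Nat.card {w : G // Even (orderOf w) ∧ w ^ (orderOf w / 2) = J}
      = Nat.card (Subgroup.centralizer ({J} : Set G)) := by
  haveI := klein_subtype_isKleinFour P hJ
  have hPC := klein_le_centralizer P hJ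
  have hJC : J ∈ Subgroup.centralizer ({J} : Set G) := hPC hJ
  have hJQ : (⟨J, hJC⟩ : Subgroup.centralizer ({J} : Set G)) ∈
      ((P.subtype hPC : Sylow 2 (Subgroup.centralizer ({J} : Set G))) :
        Subgroup (Subgroup.centralizer ({J} : Set G))) := by
    rw [Sylow.coe_subtype, Subgroup.mem_subgroupOf]; exact hJ
  have hJ1' : (⟨J, hJC⟩ : Subgroup.centralizer ({J} : Set G)) ≠ 1 := by
    simpa [Subtype.ext_iff] using hJ1
  have hJc : ∀ c : Subgroup.centralizer ({J} : Set G), c * ⟨J, hJC⟩ = ⟨J, hJC⟩ * c := by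
    intro c
    apply Subtype.ext
    exact Subgroup.mem_centralizer_singleton_iff.1 c.2
  obtain ⟨τ, h1, h2, -, h4⟩ := klein_exists_retraction (P.subtype hPC) hJQ hJ1' hJc
  have hcount := klein_section_count (P.subtype hPC) τ h1 h2 hJQ hJ1' hJc
  have hidx := Subgroup.index_mul_card τ.ker
  rw [h4, ← hcount] at hidx
  rw [← hidx]
  congr 1
  symm
  refine Nat.card_congr (Equiv.ofBijective (fun x => ⟨(x.1 : G), ?_⟩) ⟨?_, ?_⟩)
  · obtain ⟨w, hev, hpow⟩ := x
    rw [← Subgroup.orderOf_coe] at hev hpow
    exact ⟨hev, congrArg Subtype.val hpow⟩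
  · rintro ⟨w, hx⟩ ⟨w', hx'⟩ h
    simp only [Subtype.mk.injEq] at h
    exact Subtype.ext (Subtype.ext h)
  · rintro ⟨w, hev, hpow⟩
    have hcw : w * J = J * w := by rw [← hpow, ← pow_succ', ← pow_succ]
    refine ⟨⟨⟨w, Subgroup.mem_centralizer_singleton_iff.2 hcw⟩, ?_⟩, rfl⟩
    refine ⟨by rw [← Subgroup.orderOf_coe]; exact hev, ?_⟩
    apply Subtype.ext
    rw [← Subgroup.orderOf_coe]
    exact hpow

omit hK [Finite G] in
theorem section_count_conj (g J : G) :
    Nat.card {w : G // Even (orderOf w) ∧ w ^ (orderOf w / 2) = J}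
    = Nat.card {w : G // Even (orderOf w) ∧ w ^ (orderOf w / 2) = g * J * g⁻¹} := by
  refine Nat.card_congr (Equiv.subtypeEquiv (MulAut.conj g).toEquiv ?_)
  intro w
  simp only [MulEquiv.toEquiv_eq_coe, MulEquiv.coe_toEquiv, MulAut.conj_apply]
  rw [orderOf_conj', conj_pow]
  constructor
  · rintro ⟨a, d⟩
    exact ⟨a, by rw [d]⟩
  · rintro ⟨a, d⟩
    refine ⟨a, ?_⟩
    have := congrArg (fun y => g⁻¹ * y * g) d
    simpa [mul_assoc] using this

/-- exactly a quarter of the elements have even order -/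
theorem klein_even_count (hone : ∀ s t : G, orderOf s = 2 → orderOf t = 2 → IsConj s t) :
    4 * Nat.card {w : G // Even (orderOf w)} = Nat.card G := by
  classical
  haveI := Fintype.ofFinite G
  obtain ⟨J, hJ, hJ1, -⟩ := klein_exists_other P (Subgroup.one_mem _)
  have hJo : orderOf J = 2 := orderOf_eq_prime (by rw [pow_two]; exact klein_mul_self P hJ) hJ1
  rw [Nat.card_eq_fintype_card, Fintype.card_subtype]
  rw [Finset.card_eq_sum_card_fiberwise (f := fun w : G => w ^ (orderOf w / 2))
    (t := Finset.univ.filter fun z : G => orderOf z = 2)]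
  · have hfib : ∀ z ∈ Finset.univ.filter (fun z : G => orderOf z = 2),
        ((Finset.univ.filter fun w : G => Even (orderOf w)).filter fun w : G =>
            w ^ (orderOf w / 2) = z).card
        = Nat.card {w : G // Even (orderOf w) ∧ w ^ (orderOf w / 2) = J} := by
      intro z hz
      simp only [Finset.mem_filter, Finset.mem_univ, true_and] at hz
      obtain ⟨g, rfl⟩ := isConj_iff.1 (hone J z hJo hz)
      rw [section_count_conj g J, Nat.card_eq_fintype_card,
        Fintype.card_subtype, Finset.filter_filter]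
    rw [Finset.sum_congr rfl hfib, Finset.sum_const, smul_eq_mul]
    have hk : (Finset.univ.filter fun z : G => orderOf z = 2).card
        = (Subgroup.centralizer ({J} : Set G)).index := by
      rw [← card_isConj_eq_index, Nat.card_eq_fintype_card, Fintype.card_subtype]
      congr 1
      ext z
      simp only [Finset.mem_filter, Finset.mem_univ, true_and]
      constructor
      · intro hz; exact hone J z hJo hz
      · intro hz
        obtain ⟨g, rfl⟩ := isConj_iff.1 hz
        rw [orderOf_conj', hJo]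
    rw [hk, mul_left_comm, klein_section_count' P hJ hJ1, Subgroup.index_mul_card]
  · intro w hw
    simp only [Finset.coe_filter, Finset.mem_univ, true_and, Set.mem_ofPred_eq] at hw ⊢
    obtain ⟨m, hm⟩ := hw
    have hpos := orderOf_pos w
    have hm2 : orderOf w / 2 = m := by omega
    rw [hm2, orderOf_pow_of_dvd (by omega) (Dvd.intro _ (by omega : m * 2 = orderOf w))]
    apply Nat.div_eq_of_eq_mul_left (by omega)
    omega

end ambient

end Cfsg.Agent.Lib.Helper74
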