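import Mathlib
import Cfsg.Prelude.Def_Blocks
import Cfsg.Agent.Lib.Helper15.Relative
import Cfsg.Agent.Lib.Helper35.BlockNormal
import Cfsg.Agent.Lib.Helper39.GL2Char.Trans

/-!
# The Fong–Reynolds correspondence (stabilizer of a block of a normal subgroup)
-/

set_option autoImplicit false

namespace Cfsg.Agent.Lib.Helper74

open Cfsg Cfsg.Agent.Lib.Helper15 Cfsg.Agent.Lib.Helper78 Cfsg.Agent.Lib.Helper35
open scoped ComplexConjugate

section clifford

variable {G : Type*} [Group G] [Fintype G] (N : Subgroup G) [hN : N.Normal]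

/-- **Clifford correspondence** for a subgroup `T` containing the inertia group of `θ`. -/
theorem clifford_correspondence_ge [Fintype N] {θ : N → ℂ} (hθ : IsIrrCharacter N θ)
    (T : Subgroup G) [Fintype T] (hT : ∀ g : G, cj N g θ = θ → g ∈ T) (hNT : N ≤ T) :
    (∀ ψ : T → ℂ, IsIrrCharacter T ψ → classInner (resFun hNT ψ) θ ≠ 0 →
      IsIrrCharacter G (indFun T ψ)) ∧
    (∀ ψ ψ' : T → ℂ, IsIrrCharacter T ψ → IsIrrCharacter T ψ' → classInner (resFun hNT ψ) θ ≠ 0 →
      classInner (resFun hNT ψ') θ ≠ 0 → ψ ≠ ψ' → classInner (indFun T ψ) (indFun T ψ') = 0) ∧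
    (∀ ψ : T → ℂ, IsIrrCharacter T ψ → classInner (resFun hNT ψ) θ ≠ 0 →
      classInner (fun n : N => indFun T ψ n) θ = classInner (resFun hNT ψ) θ) ∧
    (∀ χ : G → ℂ, IsIrrCharacter G χ → classInner (fun n : N => χ n) θ ≠ 0 →
      ∃ ψ : T → ℂ, IsIrrCharacter T ψ ∧ classInner (resFun hNT ψ) θ ≠ 0 ∧ indFun T ψ = χ) := by
  classical
  have := Fintype.ofFinite (IrrCharacter T)
  set N' : Subgroup T := N.subgroupOf T with hN'
  set θ' : N' → ℂ := downFun N T θ with hθ'
  have hθ'irr : IsIrrCharacter N' θ' := irr_downFun hNT hθ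
  set α : T → ℂ := indFun N' θ' with hα
  have hαchar : IsCharacter T α := char_indFun N' (irr_char hθ'irr)
  have hLα : indLin T α = indFun N θ := indFun_indFun hNT θ
  have hnormT : classInner α α
      = (Nat.card N : ℂ)⁻¹ * (Nat.card {k : T // cj N (k : G) θ = θ} : ℂ) :=
    rel_norm_indFun hNT hθ
  have hnormG : classInner (indFun N θ) (indFun N θ)
      = (Nat.card N : ℂ)⁻¹ * (Nat.card {k : T // cj N (k : G) θ = θ} : ℂ) := by
    rw [norm_indFun_normal N hθ]
    congr 2
    apply Nat.card_congr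
    exact
      { toFun := fun g => ⟨⟨g.1, hT g.1 g.2⟩, g.2⟩
        invFun := fun k => ⟨k.1.1, k.2⟩
        left_inv := fun g => rfl
        right_inv := fun k => rfl }
  have hnorm : classInner (indLin T α) (indLin T α) = classInner α α := by
    rw [hLα, hnormG, hnormT]
  obtain ⟨hirr, horth⟩ := iso_lemma (indLin T) (fun ψ hψ => char_indFun T (irr_char hψ))
    (fun ψ hψ => indFun_ne_zero_of_irr T hψ) α hαchar hnorm
  -- the multiplicities
  have hmult : ∀ ψ : T → ℂ, IsIrrCharacter T ψ → classInner α ψ = classInner (resFun hNT ψ) θ := by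
    intro ψ hψ
    rw [hα, hθ', classInner_indFun_downFun_left hNT θ ψ (irr_cf hψ)]
    exact inner_comm_of_char (irr_char hθ) (char_resFun hNT (irr_char hψ))
  have hexp : indFun N θ = ∑ ψ : IrrCharacter T, classInner α ψ • indFun T (ψ : T → ℂ) := by
    rw [← hLα]
    conv_lhs => rw [cf_expansion (char_cf hαchar)]
    rw [map_sum]
    apply Finset.sum_congr rfl
    intro ψ _
    rw [map_smul]; rfl
  have h3 : ∀ ψ : T → ℂ, IsIrrCharacter T ψ → classInner (resFun hNT ψ) θ ≠ 0 →
      classInner (fun n : N => indFun T ψ n) θ = classInner (resFun hNT ψ) θ := by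
    intro ψ hψ h0
    have hχ : IsIrrCharacter G (indFun T ψ) := hirr ψ hψ (by rw [hmult ψ hψ]; exact h0)
    rw [← classInner_indFun_right N θ _ (irr_cf hχ), hexp, classInner_sum_right,
      Finset.sum_eq_single (⟨ψ, hψ⟩ : IrrCharacter T)]
    · rw [classInner_smul_right, irr_inner_self hχ, mul_one, hmult ψ hψ]
      obtain ⟨n, hn⟩ := inner_nat (char_resFun hNT (irr_char hψ)) (irr_char hθ)
      rw [hn, Complex.conj_natCast]
    · intro ψ' _ hne
      rw [classInner_smul_right]
      by_cases h0' : classInner α ψ' = 0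
      · rw [h0']; simp
      · have := horth ψ ψ' hψ ψ'.2 (by rw [hmult ψ hψ]; exact h0) h0'
          (fun h => hne (Subtype.ext h.symm))
        rw [show indFun T ψ = indLin T ψ from rfl, show indFun T (ψ' : T → ℂ) = indLin T ψ' from rfl,
          this, mul_zero]
    · intro h; exact absurd (Finset.mem_univ _) h
  refine ⟨?_, ?_, h3, ?_⟩
  · intro ψ hψ h0
    exact hirr ψ hψ (by rw [hmult ψ hψ]; exact h0)
  · intro ψ ψ' hψ hψ' h0 h0' hne
    exact horth ψ ψ' hψ hψ' (by rw [hmult ψ hψ]; exact h0) (by rw [hmult ψ' hψ']; exact h0') hne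
  · intro χ hχ h0
    have h1 : classInner (indFun N θ) χ ≠ 0 := by
      rw [classInner_indFun_left N θ χ (irr_cf hχ),
        inner_comm_of_char (irr_char hθ) (char_restrict (irr_char hχ) N)]
      exact h0
    rw [hexp, classInner_sum_left] at h1
    obtain ⟨ψ, -, hψ⟩ := Finset.exists_ne_zero_of_sum_ne_zero h1
    rw [classInner_smul_left] at hψ
    have hψ1 : classInner α ψ ≠ 0 := left_ne_zero_of_mul hψ
    have hψ2 : classInner (indFun T (ψ : T → ℂ)) χ ≠ 0 := right_ne_zero_of_mul hψ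
    refine ⟨ψ, ψ.2, by rw [← hmult ψ ψ.2]; exact hψ1, ?_⟩
    exact irr_eq_of_inner_ne_zero (hirr ψ ψ.2 hψ1) hχ hψ2

end clifford

section generic

variable {G : Type*} [Group G] [Fintype G]

/-- Frobenius reciprocity as a bilinear sum formula. -/
theorem sum_indFun_mul (H : Subgroup G) [Fintype H] (c : H → ℂ) {F : G → ℂ}
    (hF : IsClassFunction G F) :
    ∑ g : G, indFun H c g * F g = (H.index : ℂ) * ∑ h : H, c h * F h := by
  have hF' : IsClassFunction G (fun g => conj (F g)) := fun g h => by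
    show conj (F _) = conj (F _)
    rw [hF]
  have hfr := classInner_indFun_left H c (fun g => conj (F g)) hF'
  unfold Cfsg.classInner at hfr
  simp only [Complex.conj_conj] at hfr
  have hG : (Nat.card G : ℂ) ≠ 0 := card_ne_zero G
  have hH : (Nat.card H : ℂ) ≠ 0 := card_ne_zero H
  have hcard : (Nat.card G : ℂ) = (Nat.card H : ℂ) * (H.index : ℂ) := by
    rw [← H.card_mul_index]; push_cast; ring
  have : ∑ g : G, indFun H c g * F g =
      (Nat.card G : ℂ) * ((Nat.card H : ℂ)⁻¹ * ∑ h : H, c h * F h) := by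
    rw [← hfr, mul_inv_cancel_left₀ hG]
  rw [this, hcard]
  field_simp

/-- A function induced from a class function with local integer values has local integer
values. -/
theorem memLocalRing_indFun {M : Ideal AlgInt} (hM : M.IsPrime) (H : Subgroup G) {c : H → ℂ}
    (hc : IsClassFunction H c) (hc' : ∀ h, MemLocalRing M (c h)) (g : G) :
    MemLocalRing M (indFun H c g) := by
  classical
  have := Fintype.ofFinite (G ⧸ H)
  have hbij : Function.Bijective (fun p : (G ⧸ H) × H => (Quotient.out p.1 : G) * (p.2 : G)) := by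
    constructor
    · rintro ⟨q, h⟩ ⟨q', h'⟩ heq
      simp only at heq
      have h1 : q = q' := by
        have e1 : ((Quotient.out q * (h : G) : G) : G ⧸ H) = q := by
          rw [QuotientGroup.mk_mul_of_mem _ h.2]; exact QuotientGroup.out_eq' q
        have e2 : ((Quotient.out q' * (h' : G) : G) : G ⧸ H) = q' := by
          rw [QuotientGroup.mk_mul_of_mem _ h'.2]; exact QuotientGroup.out_eq' q'
        rw [← e1, ← e2, heq]
      subst h1
      have h2 : (h : G) = h' := mul_left_cancel heq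
      rw [Subtype.ext h2]
    · intro x
      refine ⟨((x : G ⧸ H), ⟨(Quotient.out (x : G ⧸ H))⁻¹ * x, ?_⟩), ?_⟩
      · rw [← QuotientGroup.eq]
        exact QuotientGroup.out_eq' _
      · simp
  rw [Cfsg.Agent.Lib.Helper39.indFun_eq_sum_transversal H c hc (fun q : G ⧸ H => Quotient.out q)
    hbij g]
  apply MemLocalRing.sum hM
  intro q _
  by_cases hq : (Quotient.out q)⁻¹ * g * Quotient.out q ∈ H
  · rw [extendByZero_mem H c hq]; exact hc' _
  · rw [extendByZero_not_mem H c hq]; exact memLocalRing_zero hM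

/-- convolution preserves local integrality -/
theorem memLocalRing_conv {M : Ideal AlgInt} (hM : M.IsPrime) {a c : G → ℂ}
    (ha : ∀ g, MemLocalRing M (a g)) (hc : ∀ g, MemLocalRing M (c g)) (g : G) :
    MemLocalRing M (conv a c g) := by
  unfold conv
  apply MemLocalRing.sum hM
  intro x _
  exact MemLocalRing.mul hM (ha _) (hc _)

/-- pairing the block idempotent with a class function -/
theorem sum_blockCoeff_mul (B : Set (IrrCharacter G)) {F : G → ℂ} (hF : IsClassFunction G F) :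
    by
      classical
      exact ∑ g : G, blockCoeff B g * F g =
        ∑ φ : IrrCharacter G, if φ ∈ B then classInner F (φ : G → ℂ) * (φ : G → ℂ) 1 else 0 := by
  classical
  have h1 : ∀ φ : IrrCharacter G, ∑ g : G, blockCoeff B g * (φ : G → ℂ) g =
      if φ ∈ B then (φ : G → ℂ) 1 else 0 := by
    intro φ
    have h2 := omega_blockCoeff B φ
    unfold omega at h2
    rw [div_eq_iff (Helper78.irr_one_ne_zero φ)] at h2
    rw [h2]
    split_ifs <;> simp
  calc ∑ g : G, blockCoeff B g * F g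
      = ∑ g : G, blockCoeff B g * (∑ φ : IrrCharacter G, classInner F φ • (φ : G → ℂ)) g := by
        rw [← cf_expansion hF]
    _ = ∑ g : G, ∑ φ : IrrCharacter G, classInner F φ * (blockCoeff B g * (φ : G → ℂ) g) := by
        apply Finset.sum_congr rfl
        intro g _
        rw [Finset.sum_apply, Finset.mul_sum]
        apply Finset.sum_congr rfl
        intro φ _
        simp only [Pi.smul_apply, smul_eq_mul]
        ring
    _ = ∑ φ : IrrCharacter G, classInner F φ * ∑ g : G, blockCoeff B g * (φ : G → ℂ) g := by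
        rw [Finset.sum_comm]
        apply Finset.sum_congr rfl
        intro φ _
        rw [Finset.mul_sum]
    _ = _ := by
        apply Finset.sum_congr rfl
        intro φ _
        rw [h1]
        split_ifs <;> simp

end generic

section FR

variable {G : Type*} [Group G] [Fintype G] (N : Subgroup G) [hN : N.Normal] [Fintype N]
  {M : Ideal AlgInt} {b : Set (IrrCharacter N)} {T : Subgroup G} [Fintype T]

/-- `ψ` (a function on `T ≥ N`) lies over the set `b` of irreducible characters of `N` -/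
def OverBlock (hNT : N ≤ T) (b : Set (IrrCharacter N)) (ψ : T → ℂ) : Prop :=
  ∃ θ ∈ b, classInner (resFun hNT ψ) (θ : N → ℂ) ≠ 0

/-- the block idempotent of `b`, as a function on `T` -/
noncomputable def idemT (T : Subgroup G) (b : Set (IrrCharacter N)) : T → ℂ :=
  fun t => extendByZero N (blockCoeff b) (t : G)

omit [Fintype N] [Fintype T] in
theorem mem_stab_of_mem (hM : M.IsPrime) (hb : IsPBlock M b)
    (hT : ∀ g : G, g ∈ T ↔ ∀ θ ∈ b, cjIrr N g θ ∈ b) {θ : IrrCharacter N} (hθ : θ ∈ b) {g : G}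
    (hg : cjIrr N g θ ∈ b) : g ∈ T := by
  rw [hT]
  intro θ₂ hθ₂
  exact IsPBlock.mem_of_sameBlock hM hb hg (sameBlock_cj N g (IsPBlock.sameBlock hM hb hθ hθ₂))

omit [Fintype N] [Fintype T] in
theorem cjIrr_mem_iff_of_mem (hT : ∀ g : G, g ∈ T ↔ ∀ θ ∈ b, cjIrr N g θ ∈ b) {h : G} (hh : h ∈ T)
    (θ : IrrCharacter N) : cjIrr N h θ ∈ b ↔ θ ∈ b := by
  constructor
  · intro h1
    have h2 := (hT h⁻¹).1 (T.inv_mem hh) _ h1
    rw [cjIrr_cjIrr, mul_inv_cancel] at h2
    have : cjIrr N 1 θ = θ := Subtype.ext (cj_one N _)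
    rwa [this] at h2
  · intro h1
    exact (hT h).1 hh θ h1

omit [Fintype T] in
theorem blockCoeff_conj_of_stab {h : G} (hstab : ∀ θ, cjIrr N h θ ∈ b ↔ θ ∈ b) (n : N) :
    blockCoeff b (⟨h * n * h⁻¹, hN.conj_mem n n.2 h⟩ : N) = blockCoeff b n := by
  classical
  rw [blockCoeff_eq_sum, blockCoeff_eq_sum]
  congr 1
  conv_rhs => rw [← Equiv.sum_comp (cjIrr N h)]
  apply Finset.sum_congr rfl
  intro χ _
  rw [cjIrr_coe, cj_apply_one, cj_apply]
  simp only [hstab]

omit [Fintype T] in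
theorem idemT_isClassFunction (hT : ∀ g : G, g ∈ T ↔ ∀ θ ∈ b, cjIrr N g θ ∈ b) :
    IsClassFunction T (idemT N T b) := by
  intro g h
  unfold idemT
  by_cases hg : (g : G) ∈ N
  · have h1 : ((h * g * h⁻¹ : T) : G) = (h : G) * g * (h : G)⁻¹ := by simp
    rw [h1, extendByZero_mem N _ hg, extendByZero_mem N _ (hN.conj_mem g hg h)]
    exact blockCoeff_conj_of_stab N (cjIrr_mem_iff_of_mem N hT h.2) ⟨g, hg⟩
  · rw [extendByZero_not_mem N _ hg, extendByZero_not_mem]
    intro h1
    apply hg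
    have := hN.conj_mem _ h1 (h : G)⁻¹
    simpa [mul_assoc] using this

omit hN [Fintype T] [Fintype G] in
theorem memLocalRing_idemT (hM : M.IsPrime) (hb : IsPBlock M b) (t : T) :
    MemLocalRing M (idemT N T b t) := by
  unfold idemT
  by_cases hg : (t : G) ∈ N
  · rw [extendByZero_mem N _ hg]; exact memLocalRing_blockCoeff hM hb _
  · rw [extendByZero_not_mem N _ hg]; exact memLocalRing_zero hM

omit hN in
theorem sum_idemT_mul (hNT : N ≤ T) (ψ : T → ℂ) :
    ∑ t : T, idemT N T b t * ψ t = ∑ n : N, blockCoeff b n * resFun hNT ψ n := by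
  classical
  rw [← sum_extendByZero T (fun t => idemT N T b t * ψ t),
    sum_eq_sum_subgroup N (extendByZero T (fun t => idemT N T b t * ψ t))]
  · apply Finset.sum_congr rfl
    intro n _
    rw [extendByZero_mem T _ (hNT n.2)]
    unfold idemT
    simp only
    rw [extendByZero_coe]
    rfl
  · intro g hg
    by_cases hgT : g ∈ T
    · rw [extendByZero_mem T _ hgT]
      unfold idemT
      simp only
      rw [extendByZero_not_mem N _ hg, zero_mul]
    · exact extendByZero_not_mem T _ hgT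

/-- all constituents of `ψ_N` lie in `b` as soon as one of them does -/
theorem mem_of_overBlock (hNT : N ≤ T) (hT : ∀ g : G, g ∈ T ↔ ∀ θ ∈ b, cjIrr N g θ ∈ b)
    {ψ : T → ℂ} (hψ : IsIrrCharacter T ψ) (hov : OverBlock N hNT b ψ) {φ : IrrCharacter N}
    (hφ : classInner (resFun hNT ψ) (φ : N → ℂ) ≠ 0) : φ ∈ b := by
  obtain ⟨θ, hθ, h0⟩ := hov
  obtain ⟨k, hk⟩ := rel_clifford_conj hNT hψ θ.2 φ.2 h0 hφ
  have : φ = cjIrr N (k : G) θ := Subtype.ext hk
  rw [this]
  exact (hT k).1 k.2 θ hθ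

open Classical in
theorem omega_idemT (hNT : N ≤ T) (hT : ∀ g : G, g ∈ T ↔ ∀ θ ∈ b, cjIrr N g θ ∈ b)
    (ψ : IrrCharacter T) :
    omega (ψ : T → ℂ) (idemT N T b) = if OverBlock N hNT b ψ then 1 else 0 := by
  have hcf : IsClassFunction N (resFun hNT (ψ : T → ℂ)) :=
    char_cf (char_resFun hNT (irr_char ψ.2))
  unfold omega
  rw [sum_idemT_mul N hNT, sum_blockCoeff_mul b hcf]
  split_ifs with hov
  · rw [div_eq_one_iff_eq (Helper78.irr_one_ne_zero ψ)]
    have h1 : (ψ : T → ℂ) 1 = resFun hNT (ψ : T → ℂ) 1 := rfl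
    rw [h1]
    conv_rhs => rw [cf_expansion hcf]
    rw [Finset.sum_apply]
    apply Finset.sum_congr rfl
    intro φ _
    simp only [Pi.smul_apply, smul_eq_mul]
    split_ifs with hφ
    · rfl
    · have : classInner (resFun hNT (ψ : T → ℂ)) (φ : N → ℂ) = 0 := by
        by_contra h0
        exact hφ (mem_of_overBlock N hNT hT ψ.2 hov h0)
      rw [this, zero_mul]
  · rw [Finset.sum_eq_zero, zero_div]
    intro φ _
    split_ifs with hφ
    · have : classInner (resFun hNT (ψ : T → ℂ)) (φ : N → ℂ) = 0 := by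
        by_contra h0
        exact hov ⟨φ, hφ, h0⟩
      rw [this, zero_mul]
    · rfl

/-- lying over `b` is constant on the blocks of `T` -/
theorem overBlock_of_sameBlock (hM : M.IsPrime) (hb : IsPBlock M b) (hNT : N ≤ T)
    (hT : ∀ g : G, g ∈ T ↔ ∀ θ ∈ b, cjIrr N g θ ∈ b) {ψ ψ' : IrrCharacter T}
    (h : SameBlock M (ψ : T → ℂ) (ψ' : T → ℂ)) (hov : OverBlock N hNT b ψ) :
    OverBlock N hNT b ψ' := by
  classical
  by_contra hcon
  have h1 := memLocalIdeal_omega_sub hM h (idemT_isClassFunction N hT)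
    (memLocalRing_idemT N hM hb)
  rw [omega_idemT N hNT hT, omega_idemT N hNT hT, if_pos hov, if_neg hcon, sub_zero] at h1
  exact not_memLocalIdeal_one hM h1

omit [Fintype N] [Fintype T] in
/-- the inertia group of a member of `b` lies in `T` -/
theorem inertia_le (hM : M.IsPrime) (hb : IsPBlock M b)
    (hT : ∀ g : G, g ∈ T ↔ ∀ θ ∈ b, cjIrr N g θ ∈ b) {θ : IrrCharacter N} (hθ : θ ∈ b) :
    ∀ g : G, cj N g (θ : N → ℂ) = θ → g ∈ T := by
  intro g hg
  apply mem_stab_of_mem N hM hb hT hθ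
  have : cjIrr N g θ = θ := Subtype.ext hg
  rw [this]; exact hθ

theorem irr_indFun_of_over (hM : M.IsPrime) (hb : IsPBlock M b) (hNT : N ≤ T)
    (hT : ∀ g : G, g ∈ T ↔ ∀ θ ∈ b, cjIrr N g θ ∈ b) {ψ : T → ℂ} (hψ : IsIrrCharacter T ψ)
    (hov : OverBlock N hNT b ψ) : IsIrrCharacter G (indFun T ψ) := by
  obtain ⟨θ, hθ, h0⟩ := hov
  exact (clifford_correspondence_ge N θ.2 T (inertia_le N hM hb hT hθ) hNT).1 ψ hψ h0

/-- `ψ^G` lies over the same members of `b` as `ψ` -/
theorem indFun_over_of_over (hM : M.IsPrime) (hb : IsPBlock M b) (hNT : N ≤ T)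
    (hT : ∀ g : G, g ∈ T ↔ ∀ θ ∈ b, cjIrr N g θ ∈ b) {ψ : T → ℂ} (hψ : IsIrrCharacter T ψ)
    {θ : IrrCharacter N} (hθ : θ ∈ b) (h0 : classInner (resFun hNT ψ) (θ : N → ℂ) ≠ 0) :
    classInner (fun n : N => indFun T ψ n) (θ : N → ℂ) ≠ 0 := by
  rw [(clifford_correspondence_ge N θ.2 T (inertia_le N hM hb hT hθ) hNT).2.2.1 ψ hψ h0]
  exact h0

theorem exists_of_over (hM : M.IsPrime) (hb : IsPBlock M b) (hNT : N ≤ T)
    (hT : ∀ g : G, g ∈ T ↔ ∀ θ ∈ b, cjIrr N g θ ∈ b) {χ : G → ℂ} (hχ : IsIrrCharacter G χ)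
    {θ : IrrCharacter N} (hθ : θ ∈ b) (h0 : classInner (fun n : N => χ n) (θ : N → ℂ) ≠ 0) :
    ∃ ψ : IrrCharacter T, OverBlock N hNT b ψ ∧ indFun T (ψ : T → ℂ) = χ := by
  obtain ⟨ψ, hψ, h1, h2⟩ :=
    (clifford_correspondence_ge N θ.2 T (inertia_le N hM hb hT hθ) hNT).2.2.2 χ hχ h0
  exact ⟨⟨ψ, hψ⟩, ⟨θ, hθ, h1⟩, h2⟩

open Classical in
/-- induction is an isometry on `Irr(T | b)` -/
theorem classInner_indFun_indFun_of_over (hM : M.IsPrime) (hb : IsPBlock M b) (hNT : N ≤ T)
    (hT : ∀ g : G, g ∈ T ↔ ∀ θ ∈ b, cjIrr N g θ ∈ b) {ψ ξ : IrrCharacter T}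
    (hψ : OverBlock N hNT b ψ) (hξ : OverBlock N hNT b ξ) :
    classInner (indFun T (ψ : T → ℂ)) (indFun T (ξ : T → ℂ)) = if ψ = ξ then 1 else 0 := by
  have hψi := irr_indFun_of_over N hM hb hNT hT ψ.2 hψ
  have hξi := irr_indFun_of_over N hM hb hNT hT ξ.2 hξ
  split_ifs with h
  · rw [h]; exact irr_inner_self hξi
  · by_contra hne
    have heq : indFun T (ψ : T → ℂ) = indFun T (ξ : T → ℂ) := irr_eq_of_inner_ne_zero hψi hξi hne
    obtain ⟨θ₁, hθ₁, h1⟩ := hψ
    obtain ⟨θ₂, hθ₂, h2⟩ := hξ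
    have h1' := indFun_over_of_over N hM hb hNT hT ψ.2 hθ₁ h1
    have h2' := indFun_over_of_over N hM hb hNT hT ξ.2 hθ₂ h2
    rw [← heq] at h2'
    obtain ⟨g, hg⟩ := clifford_conj N hψi θ₁.2 θ₂.2 h1' h2'
    have hg' : θ₂ = cjIrr N g θ₁ := Subtype.ext hg
    have hgT : g ∈ T := mem_stab_of_mem N hM hb hT hθ₁ (hg' ▸ hθ₂)
    -- `ψ` lies over `θ₂` as well
    have h3 : classInner (resFun hNT (ψ : T → ℂ)) (θ₂ : N → ℂ) ≠ 0 := by
      have hinv : cj N g (resFun hNT (ψ : T → ℂ)) = resFun hNT (ψ : T → ℂ) := by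
        funext x
        exact irr_cf ψ.2 ⟨(x : G), hNT x.2⟩ ⟨g, hgT⟩
      rw [hg, ← hinv, classInner_cj_cj]
      exact h1
    exact hne ((clifford_correspondence_ge N θ₂.2 T (inertia_le N hM hb hT hθ₂) hNT).2.1 ψ ξ ψ.2 ξ.2
      h3 h2 (fun h' => h (Subtype.ext h')))

/-- **Key identity.** -/
theorem omega_indFun_conv (hM : M.IsPrime) (hb : IsPBlock M b) (hNT : N ≤ T)
    (hT : ∀ g : G, g ∈ T ↔ ∀ θ ∈ b, cjIrr N g θ ∈ b) {ψ : IrrCharacter T}
    (hψ : OverBlock N hNT b ψ) (a : T → ℂ) :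
    omega (indFun T (ψ : T → ℂ)) (indFun T (conv a (idemT N T b))) = omega (ψ : T → ℂ) a := by
  classical
  have hψi := irr_indFun_of_over N hM hb hNT hT ψ.2 hψ
  have hcfG : IsClassFunction G (indFun T (ψ : T → ℂ)) := indFun_isClassFunction T _
  have hcfT : IsClassFunction T (fun t : T => indFun T (ψ : T → ℂ) t) := fun g h => by
    have h1 : ((h * g * h⁻¹ : T) : G) = (h : G) * g * (h : G)⁻¹ := by simp
    show indFun T (ψ : T → ℂ) ((h * g * h⁻¹ : T) : G) = _
    rw [h1, hcfG]
  set c := conv a (idemT N T b) with hc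
  have hcξ : ∀ ξ : IrrCharacter T, ∑ t : T, c t * (ξ : T → ℂ) t =
      (ξ : T → ℂ) 1 * (omega (ξ : T → ℂ) a * if OverBlock N hNT b ξ then 1 else 0) := by
    intro ξ
    rw [← omega_idemT N hNT hT ξ, ← omega_conv ξ.2 a (idemT_isClassFunction N hT)]
    unfold omega
    rw [mul_div_cancel₀ _ (Helper78.irr_one_ne_zero ξ)]
  have hmain : ∑ t : T, c t * indFun T (ψ : T → ℂ) t = (ψ : T → ℂ) 1 * omega (ψ : T → ℂ) a := by
    calc ∑ t : T, c t * indFun T (ψ : T → ℂ) t
        = ∑ t : T, c t * (∑ ξ : IrrCharacter T,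
            classInner (fun t : T => indFun T (ψ : T → ℂ) t) ξ • (ξ : T → ℂ)) t := by
          rw [← cf_expansion hcfT]
      _ = ∑ t : T, ∑ ξ : IrrCharacter T,
            classInner (fun t : T => indFun T (ψ : T → ℂ) t) ξ * (c t * (ξ : T → ℂ) t) := by
          apply Finset.sum_congr rfl
          intro g _
          rw [Finset.sum_apply, Finset.mul_sum]
          apply Finset.sum_congr rfl
          intro φ _
          simp only [Pi.smul_apply, smul_eq_mul]
          ring
      _ = ∑ ξ : IrrCharacter T, classInner (fun t : T => indFun T (ψ : T → ℂ) t) ξ *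
            ∑ t : T, c t * (ξ : T → ℂ) t := by
          rw [Finset.sum_comm]
          apply Finset.sum_congr rfl
          intro φ _
          rw [Finset.mul_sum]
      _ = _ := by
          rw [Finset.sum_eq_single ψ]
          · rw [hcξ, if_pos hψ, mul_one, ← classInner_indFun_right T _ _ hcfG,
              classInner_indFun_indFun_of_over N hM hb hNT hT hψ hψ, if_pos rfl, one_mul]
          · intro ξ _ hne
            rw [hcξ]
            by_cases hξ : OverBlock N hNT b ξ
            · rw [← classInner_indFun_right T _ _ hcfG,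
                classInner_indFun_indFun_of_over N hM hb hNT hT hψ hξ, if_neg (Ne.symm hne),
                zero_mul]
            · rw [if_neg hξ]; simp
          · intro h; exact absurd (Finset.mem_univ _) h
  unfold omega at hmain ⊢
  rw [sum_indFun_mul T c hcfG, hmain, indFun_one]
  have hidx : (T.index : ℂ) ≠ 0 := by exact_mod_cast T.index_ne_zero_of_finite
  have h1 := Helper78.irr_one_ne_zero ψ
  field_simp

/-- **Fong–Reynolds, the hard direction.** -/
theorem sameBlock_of_sameBlock_indFun (hM : M.IsPrime) (hb : IsPBlock M b) (hNT : N ≤ T)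
    (hT : ∀ g : G, g ∈ T ↔ ∀ θ ∈ b, cjIrr N g θ ∈ b) {ψ₁ ψ₂ : IrrCharacter T}
    (h₁ : OverBlock N hNT b ψ₁) (h₂ : OverBlock N hNT b ψ₂)
    (h : SameBlock M (indFun T (ψ₁ : T → ℂ)) (indFun T (ψ₂ : T → ℂ))) :
    SameBlock M (ψ₁ : T → ℂ) (ψ₂ : T → ℂ) := by
  intro t
  have hi₁ := irr_indFun_of_over N hM hb hNT hT ψ₁.2 h₁
  have hi₂ := irr_indFun_of_over N hM hb hNT hT ψ₂.2 h₂
  have hcl : IsClassFunction T (conv (classInd t) (idemT N T b)) :=
    conv_isClassFunction (classInd_isClassFunction t) (idemT_isClassFunction N hT)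
  have hloc : ∀ s : T, MemLocalRing M (conv (classInd t) (idemT N T b) s) :=
    memLocalRing_conv hM (fun s => memLocalRing_classInd hM t s) (memLocalRing_idemT N hM hb)
  have h3 := memLocalIdeal_omega_sub hM (χ := ⟨_, hi₁⟩) (ψ := ⟨_, hi₂⟩) h
    (indFun_isClassFunction T (conv (classInd t) (idemT N T b)))
    (memLocalRing_indFun hM T hcl hloc)
  simp only at h3
  rw [omega_indFun_conv N hM hb hNT hT h₁, omega_indFun_conv N hM hb hNT hT h₂,
    omega_classInd (irr_cf ψ₁.2), omega_classInd (irr_cf ψ₂.2)] at h3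
  exact h3

end FR

end Cfsg.Agent.Lib.Helper74
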