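import Mathlib
import Cfsg.Prelude.Def_Blocks
import Cfsg.Agent.S0158
import Cfsg.Agent.S4475
import Cfsg.Agent.Lib.Helper74.CharMore

/-!
# Frobenius–Schur indicator of irreducible characters: basic facts (helper74)
-/

set_option autoImplicit false
set_option linter.style.haveILetI false

namespace Cfsg.Agent.Lib.Helper74

open Cfsg

variable {G : Type*} [Group G] [Fintype G]

/-- the Frobenius–Schur indicator -/
noncomputable def fsInd (χ : G → ℂ) : ℂ := (Nat.card G : ℂ)⁻¹ * ∑ s : G, χ (s * s)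

theorem fsInd_cases (χ : IrrCharacter G) :
    fsInd (χ : G → ℂ) = 0 ∨ fsInd (χ : G → ℂ) = 1 ∨ fsInd (χ : G → ℂ) = -1 := by
  obtain ⟨n, ρ, hirr, hχ⟩ := χ.2
  haveI := hirr
  have := (Cfsg.Agent.S0158.result ρ).1
  rw [hχ] at this
  exact this

theorem fsInd_eq_zero_iff (χ : IrrCharacter G) :
    fsInd (χ : G → ℂ) = 0 ↔ ∃ s : G, ((χ : G → ℂ) s).im ≠ 0 := by
  obtain ⟨n, ρ, hirr, hχ⟩ := χ.2
  haveI := hirr
  have := (Cfsg.Agent.S0158.result ρ).2
  rw [hχ] at this
  exact this

/-- A symplectic irreducible character has even degree. -/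
theorem even_charDegree_of_fsInd_neg_one (χ : IrrCharacter G) (h : fsInd (χ : G → ℂ) = -1) :
    Even (charDegree (χ : G → ℂ)) := by
  have hreal : ∀ g : G, ((χ : G → ℂ) g).im = 0 := by
    by_contra hcon
    push Not at hcon
    rw [(fsInd_eq_zero_iff χ).2 hcon] at h
    norm_num at h
  obtain ⟨n, ρ, hirr, hχ⟩ := χ.2
  haveI := hirr
  rw [← hχ] at hreal h ⊢
  rw [charDegree_rep]
  obtain ⟨⟨M, hM0, hM⟩, hall⟩ := Cfsg.Agent.S4475.result n ρ hirr hreal
  have hMt : M.transpose = -M := by
    have := hall M hM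
    unfold fsInd at h
    rw [h] at this
    simpa using this
  have hunit : IsUnit M := by
    refine Cfsg.Agent.S4475.isUnit_of_intertwine_right ρ M
      (fun g => (LinearMap.toMatrix' (ρ g⁻¹)).transpose) ?_ hM0
    intro g
    have h1 : (LinearMap.toMatrix' (ρ g⁻¹)).transpose * (LinearMap.toMatrix' (ρ g)).transpose = 1 := by
      rw [← Matrix.transpose_mul, ← LinearMap.toMatrix'_mul, ← map_mul, mul_inv_cancel, map_one]
      simp
    calc M * LinearMap.toMatrix' (ρ g)
        = ((LinearMap.toMatrix' (ρ g⁻¹)).transpose * (LinearMap.toMatrix' (ρ g)).transpose) * M *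
            LinearMap.toMatrix' (ρ g) := by rw [h1, one_mul]
      _ = (LinearMap.toMatrix' (ρ g⁻¹)).transpose *
            ((LinearMap.toMatrix' (ρ g)).transpose * M * LinearMap.toMatrix' (ρ g)) := by
          simp only [Matrix.mul_assoc]
      _ = _ := by rw [hM g]
  have hdet : M.det ≠ 0 := by
    have := (Matrix.isUnit_iff_isUnit_det M).1 hunit
    exact this.ne_zero
  have h2 : M.det = (-1) ^ n * M.det := by
    conv_lhs => rw [← Matrix.det_transpose, hMt, Matrix.det_neg]
    simp
  have h3 : ((-1 : ℂ)) ^ n = 1 := by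
    have : ((-1 : ℂ) ^ n - 1) * M.det = 0 := by linear_combination -h2
    rcases mul_eq_zero.1 this with h | h
    · linear_combination h
    · exact absurd h hdet
  exact (neg_one_pow_eq_one_iff_even (by norm_num)).1 h3

end Cfsg.Agent.Lib.Helper74
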